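import Cfsg.Agent.Lib.StdCo0.Fusion

/-!
# Not all the involutions of the lattice group are fused with the central involution

Otherwise a Sylow two-subgroup of the centralizer of `z` is one of the whole group, and its normalizer
maps the negative of the octad sign change to `z`.
-/

set_option autoImplicit false

namespace Cfsg.Agent.Lib.StdCo0

open Cfsg Cfsg.Agent.Lib Cfsg.Agent.Lib.Leech
open Cfsg.Agent.Lib.Co1Mult.Cross (dg dg_sq)

variable {G : Type*} [Group G] [Finite G] {φ : Co0 →* G}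

/-- The product map of the lattice group and the centralizer of its image. -/
def prodMap (φ : Co0 →* G) : Co0 × ↥(Subgroup.centralizer (φ.range : Set G)) →* G where
  toFun p := φ p.1 * p.2
  map_one' := by simp
  map_mul' p q := by
    simp only [Prod.fst_mul, Prod.snd_mul, map_mul, Subgroup.coe_mul]
    calc φ p.1 * φ q.1 * ((p.2 : G) * q.2) = φ p.1 * (φ q.1 * p.2) * q.2 := by group
      _ = φ p.1 * ((p.2 : G) * φ q.1) * q.2 := by rw [mem_C p.2.2 q.1]
      _ = _ := by group

theorem prodMap_apply (p : Co0 × ↥(Subgroup.centralizer (φ.range : Set G))) :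
    prodMap φ p = φ p.1 * p.2 := rfl

theorem Setup.range_prodMap (S : Setup φ) :
    (prodMap φ).range = Subgroup.centralizer ({φ negOne} : Set G) := by
  ext h
  rw [Subgroup.mem_centralizer_singleton_iff]
  constructor
  · rintro ⟨p, rfl⟩
    rw [prodMap_apply, mul_assoc, ← mem_C p.2.2, ← mul_assoc, ← map_mul, neg_comm, map_mul, mul_assoc]
  · intro hh
    obtain ⟨a, c, hc, rfl⟩ := S.fac h hh
    exact ⟨(a, ⟨c, hc⟩), rfl⟩

theorem fused_ss_false (S : Setup φ) (hall : ∀ x : Co0, x * x = 1 → x ≠ 1 → Fused φ x) : False := by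
  classical
  haveI : Fact (Nat.Prime 2) := ⟨Nat.prime_two⟩
  obtain ⟨R⟩ : Nonempty (Sylow 2 ↥(Subgroup.centralizer (φ.range : Set G))) := inferInstance
  haveI := S.cyc R
  set T : Subgroup G := (T0.prod R.toSubgroup).map (prodMap φ) with hT
  have hTp : IsPGroup 2 T := by
    refine IsPGroup.map ?_ _
    obtain ⟨m, hm⟩ := IsPGroup.iff_card.1 R.2
    refine IsPGroup.of_card (n := 22 + m) ?_
    rw [Nat.card_congr (Subgroup.prodEquiv T0 R.toSubgroup).toEquiv, Nat.card_prod, card_T0, hm,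
      pow_add]
  have hTH : T ≤ Subgroup.centralizer ({φ negOne} : Set G) := S.range_prodMap ▸ Subgroup.map_le_range _ _
  have hidx : Odd (T.relIndex (Subgroup.centralizer ({φ negOne} : Set G))) := by
    rw [← S.range_prodMap, hT, MonoidHom.range_eq_map (prodMap φ), Subgroup.relIndex_map_map, top_sup_eq,
      Subgroup.relIndex_top_right]
    refine Odd.of_dvd_nat ?_ (Subgroup.index_dvd_of_le le_sup_left)
    rw [Subgroup.index_prod]
    refine odd_index_T0.mul ?_
    exact Nat.odd_iff.2 (Nat.two_dvd_ne_zero.1 R.not_dvd_index)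
  -- two-subgroups above `T` inside the centralizer
  have hmax : ∀ Q : Subgroup G, IsPGroup 2 Q → Q ≤ Subgroup.centralizer ({φ negOne} : Set G) →
      T ≤ Q → Q = T := by
    intro Q hQ hQH hTQ
    obtain ⟨m, hm⟩ := IsPGroup.iff_card.1 hQ
    have h1 : T.relIndex Q ∣ 2 ^ m := hm ▸ Subgroup.relIndex_dvd_card T Q
    have h2 : Odd (T.relIndex Q) := by
      refine Odd.of_dvd_nat hidx ?_
      exact Dvd.intro _ (Subgroup.relIndex_mul_relIndex T Q _ hTQ hQH)
    obtain ⟨i, -, hi⟩ := (Nat.dvd_prime_pow Nat.prime_two).1 h1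
    rcases i with _ | i
    · exact le_antisymm (Subgroup.relIndex_eq_one.1 (by simpa using hi)) hTQ
    · rw [hi] at h2
      exact absurd h2 (Nat.not_odd_iff_even.2 (even_two.pow_of_ne_zero (by omega)))
  have hcard : ∀ Q : Subgroup G, IsPGroup 2 Q → Q ≤ Subgroup.centralizer ({φ negOne} : Set G) →
      Nat.card Q ≤ Nat.card T := by
    intro Q hQ hQH
    obtain ⟨m, hm⟩ := IsPGroup.iff_card.1 hQ
    have h1 : Nat.card Q ∣ Nat.card (Subgroup.centralizer ({φ negOne} : Set G)) :=
      Subgroup.card_dvd_of_le hQH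
    have hH := Subgroup.relIndex_mul_relIndex ⊥ T (Subgroup.centralizer ({φ negOne} : Set G))
      bot_le hTH
    rw [Subgroup.relIndex_bot_left, Subgroup.relIndex_bot_left] at hH
    rw [← hH] at h1
    refine Nat.le_of_dvd Nat.card_pos (Nat.Coprime.dvd_of_dvd_mul_right ?_ h1)
    rw [hm]
    exact Nat.Coprime.pow_left m (Nat.coprime_two_left.2 hidx)
  have hmem : ∀ x ∈ T, ∃ a ∈ T0, ∃ c, c ∈ Subgroup.centralizer (φ.range : Set G) ∧
      (∀ d : ↥(Subgroup.centralizer (φ.range : Set G)), d ∈ R.toSubgroup →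
        c * (d : G) = d * c) ∧ x = φ a * c := by
    rintro x ⟨⟨a, c⟩, ⟨ha, hc⟩, rfl⟩
    refine ⟨a, ha, c, c.2, fun d hd => ?_, rfl⟩
    letI : CommGroup (R : Subgroup ↥(Subgroup.centralizer (φ.range : Set G))) := IsCyclic.commGroup
    have h := mul_comm (⟨c, hc⟩ : R.toSubgroup) ⟨d, hd⟩
    exact congrArg (fun t : R.toSubgroup => ((t : ↥(Subgroup.centralizer (φ.range : Set G))) : G)) h
  have hT0 : ∀ t ∈ T0, φ t ∈ T := fun t ht =>
    ⟨(t, 1), ⟨ht, one_mem _⟩, by rw [prodMap_apply, Subgroup.coe_one, mul_one]⟩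
  have hzT : φ negOne ∈ T := hT0 _ negOne_mem_T0
  obtain ⟨P, hP⟩ := hTp.exists_le_sylow
  haveI : Nontrivial (P : Subgroup G) := ⟨⟨⟨_, hP hzT⟩, 1, fun h => S.z_ne (congrArg Subtype.val h)⟩⟩
  obtain ⟨w, hw⟩ := exists_prime_orderOf_dvd_card' 2 (G := Subgroup.center (P : Subgroup G)) (by
    haveI := P.2.center_nontrivial
    exact (P.2.to_subgroup _).card_eq_or_dvd.resolve_left Finite.one_lt_card.ne')
  set u : G := ((w : (P : Subgroup G)) : G) with hu
  have hu2 : u * u = 1 := by
    have hw2 : w * w = 1 := by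
      have h := pow_orderOf_eq_one w
      rwa [hw, sq] at h
    exact congrArg (fun t : Subgroup.center (P : Subgroup G) => ((t : (P : Subgroup G)) : G)) hw2
  have hu1 : u ≠ 1 := by
    intro h
    have : w = 1 := Subtype.ext (Subtype.ext h)
    rw [this, orderOf_one] at hw
    norm_num at hw
  have huP : ∀ s ∈ (P : Subgroup G), u * s = s * u := fun s hs =>
    (congrArg Subtype.val (Subgroup.mem_center_iff.1 w.2 ⟨s, hs⟩)).symm
  have huH : u ∈ Subgroup.centralizer ({φ negOne} : Set G) :=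
    Subgroup.mem_centralizer_singleton_iff.2 (huP _ (hP hzT))
  have huT : u ∈ T := by
    have hsup : T ⊔ Subgroup.zpowers u ≤ (P : Subgroup G) :=
      sup_le hP (Subgroup.zpowers_le.2 (w : (P : Subgroup G)).2)
    rw [← hmax _ (P.2.to_le hsup) (sup_le hTH (Subgroup.zpowers_le.2 huH)) le_sup_left]
    exact le_sup_right (a := T) (Subgroup.mem_zpowers u)
  have hfix : ∀ x ∈ T, (∀ s ∈ T, x * s = s * x) → x * x = 1 → x ≠ 1 →
      ∃ a : Co0, a * a = 1 ∧ a ≠ 1 ∧ x = φ a := by
    intro x hx hcen h2 h1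
    obtain ⟨a, ha, c, hc, -, rfl⟩ := hmem x hx
    have hat : ∀ t ∈ T0, a * t = t * a := fun t ht => by
      refine S.inj (mul_right_cancel (b := c) ?_)
      have h := hcen _ (hT0 t ht)
      rw [map_mul, map_mul, mul_assoc (φ a), mem_C hc t, ← mul_assoc, h, mul_assoc]
    have ha2 : a * a = 1 := by
      rcases center_T0 ha hat with rfl | rfl | rfl | rfl
      · exact one_mul 1
      · exact negOne_sq
      · exact dg_sq _
      · exact dg_sq _
    have hc2 : c * c = 1 := by
      rw [show φ a * c * (φ a * c) = φ a * (c * φ a) * c by group, ← mem_C hc a, ← mul_assoc,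
        ← map_mul, ha2, map_one, one_mul] at h2
      exact h2
    rcases S.invC hc hc2 with rfl | rfl
    · exact ⟨a, ha2, fun h => h1 (by rw [h, map_one, one_mul]), mul_one _⟩
    · refine ⟨a * negOne, ?_, fun h => h1 (by rw [← map_mul, h, map_one]), (map_mul φ _ _).symm⟩
      rw [show a * negOne * (a * negOne) = a * (negOne * a) * negOne by group, ← neg_comm,
        ← mul_assoc, ha2, one_mul, negOne_sq]
  obtain ⟨a, ha2, ha1, hua⟩ := hfix u huT (fun s hs => huP s (hP hs)) hu2 hu1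
  -- so the Sylow two-subgroup is `T`
  obtain ⟨g, hg⟩ := isConj_iff.1 (hall a ha2 ha1)
  rw [← hua] at hg
  have hPle : (P : Subgroup G).map (MulAut.conj g⁻¹).toMonoidHom ≤
      Subgroup.centralizer ({φ negOne} : Set G) := by
    rintro _ ⟨s, hs, rfl⟩
    rw [Subgroup.mem_centralizer_singleton_iff]
    simp only [MulEquiv.coe_toMonoidHom, MulAut.conj_apply, inv_inv]
    have h := huP s hs
    rw [← hg] at h
    calc g⁻¹ * s * g * φ negOne = g⁻¹ * (s * (g * φ negOne * g⁻¹)) * g := by group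
      _ = g⁻¹ * (g * φ negOne * g⁻¹ * s) * g := by rw [h]
      _ = _ := by group
  have hPT : (P : Subgroup G) = T := by
    refine (Subgroup.eq_of_le_of_card_ge hP ?_).symm
    have hinj : Function.Injective (MulAut.conj g⁻¹).toMonoidHom := (MulAut.conj g⁻¹).injective
    rw [← Subgroup.card_map_of_injective (K := (P : Subgroup G)) hinj]
    exact hcard _ (P.2.map _) hPle
  -- fusion inside the centre is controlled by the normalizer
  have hcentral : ∀ b : Co0, (∀ t ∈ T0, Commute t b) → φ b ∈ Subgroup.centralizer (P : Set G) := by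
    intro b hb s hs
    have hs' : s ∈ (P : Subgroup G) := hs
    rw [hPT] at hs'
    clear hs; rename' hs' => hs
    obtain ⟨t, ht, c, hc, -, rfl⟩ := hmem s hs
    calc φ t * c * φ b = φ t * (φ b * c) := by rw [mul_assoc, mem_C hc b]
      _ = φ b * (φ t * c) := by rw [← mul_assoc, ← map_mul, (hb t ht).eq, map_mul, mul_assoc]
  have hss2 : ss * ss = 1 := dg_sq _
  have hss1 : ss ≠ 1 := fun h => by
    rw [ss, ← Co1Mult.Cross.dg_zero] at h
    exact absurd (Co1Mult.Cross.dg_inj (by norm_num) (by norm_num) h) (by norm_num)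
  obtain ⟨k, hk⟩ := isConj_iff.1 (hall ss hss2 hss1)
  obtain ⟨n, hn, e⟩ := P.conj_eq_normalizer_conj_of_mem_centralizer (φ negOne) k⁻¹
    (hcentral negOne fun t _ => neg_comm t)
    (by rw [inv_inv, hk]; exact hcentral ss fun t ht => ss_central ht)
  rw [inv_inv, hk] at e
  have hnP : ∀ s, s ∈ (P : Subgroup G) ↔ n * s * n⁻¹ ∈ (P : Subgroup G) :=
    Subgroup.mem_normalizer_iff.1 hn
  have hB : n * φ (dg 84) * n⁻¹ ∈ T := hPT ▸ (hnP _).1 (hP (hT0 _ (dg_mem_T0 84)))
  obtain ⟨b, hb, c, hc, hcR, hbc⟩ := hmem _ hB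
  have hnear : ∀ t ∈ T0, b * t = t * b ∨ b * t = t * b * negOne := by
    intro t ht
    have hs : n⁻¹ * φ t * n ∈ T := hPT ▸ (hnP _).2 (by
      rw [show n * (n⁻¹ * φ t * n) * n⁻¹ = φ t by group]
      exact hP (hT0 t ht))
    obtain ⟨t', ht', c', hc', -, ht'c⟩ := hmem _ hs
    have hcomm : φ (t * b * t⁻¹ * b⁻¹) = n * φ (t' * dg 84 * t'⁻¹ * (dg 84)⁻¹) * n⁻¹ := by
      have e1 : φ t * (φ b * c) * (φ t)⁻¹ * (φ b * c)⁻¹ = φ (t * b * t⁻¹ * b⁻¹) := by
        calc _ = φ t * φ b * (c * (φ t)⁻¹) * c⁻¹ * (φ b)⁻¹ := by group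
          _ = φ t * φ b * ((φ t)⁻¹ * c) * c⁻¹ * (φ b)⁻¹ := by
            rw [← map_inv, mem_C hc t⁻¹]
          _ = _ := by simp only [map_mul, map_inv]; group
      have e2 : φ (t' * dg 84 * t'⁻¹ * (dg 84)⁻¹) =
          φ t' * c' * φ (dg 84) * (φ t' * c')⁻¹ * (φ (dg 84))⁻¹ := by
        calc _ = φ t' * (φ (dg 84) * c' * c'⁻¹) * (φ t')⁻¹ * (φ (dg 84))⁻¹ := by
              simp only [map_mul, map_inv]; group
          _ = _ := by rw [mem_C hc' (dg 84)]; group
      rw [← e1, e2, ← ht'c, ← hbc]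
      group
    have key : φ (t * b * t⁻¹ * b⁻¹) = φ (1 : Co0) ∨ φ (t * b * t⁻¹ * b⁻¹) = φ negOne := by
      rcases ss_pair ht' with h | h <;> rw [hcomm, h]
      · left; rw [map_one, mul_one, mul_inv_cancel]
      · right; rw [e]; group
    rcases key with h | h <;> have h' := S.inj h
    · left
      rw [mul_inv_eq_one, mul_inv_eq_iff_eq_mul] at h'
      exact h'.symm
    · right
      rw [mul_inv_eq_iff_eq_mul, mul_inv_eq_iff_eq_mul] at h'
      rw [h', ← neg_comm b, mul_assoc b negOne t, ← neg_comm t, ← mul_assoc b t, mul_assoc (b * t),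
        negOne_sq, mul_one]
  have hbcen : ∀ t ∈ T0, Commute t b := by
    rcases near_central hb hnear with rfl | rfl | rfl | rfl
    · exact fun t _ => Commute.one_right t
    · exact fun t _ => neg_comm t
    · exact fun t ht => oo_central ht
    · exact fun t ht => ss_central ht
  refine B_not_center fun t ht => S.inj ?_
  have hxP : ∀ s ∈ T, n * φ (dg 84) * n⁻¹ * s = s * (n * φ (dg 84) * n⁻¹) := by
    intro s hs
    rw [hbc]
    obtain ⟨⟨t', c'⟩, ⟨ht', hc'⟩, rfl⟩ := hs
    rw [prodMap_apply]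
    calc φ b * c * (φ t' * (c' : G)) = φ b * (c * φ t') * c' := by group
      _ = φ b * φ t' * (c * c') := by rw [← mem_C hc t']; group
      _ = φ t' * φ b * ((c' : G) * c) := by rw [← map_mul, ← (hbcen t' ht').eq, map_mul, hcR c' hc']
      _ = φ t' * (φ b * c') * c := by group
      _ = φ t' * ((c' : G) * φ b) * c := by rw [mem_C c'.2 b]
      _ = _ := by group
  have h := hxP (n * φ t * n⁻¹) (hPT ▸ (hnP _).1 (hP (hT0 t ht)))
  rw [map_mul, map_mul]
  calc φ (dg 84) * φ t = n⁻¹ * (n * φ (dg 84) * n⁻¹ * (n * φ t * n⁻¹)) * n := by group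
    _ = _ := by rw [h]; group

end Cfsg.Agent.Lib.StdCo0
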