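import Cfsg.Agent.Lib.Co1Mult.Diag
import Cfsg.Agent.Lib.Co1Cent.Main
import Cfsg.Agent.Lib.Co1Type31.Main
import Cfsg.Agent.Lib.M24SylowQuot.Basic
import Cfsg.Agent.Lib.Leech.Order

/-!
# Involutions of the lattice group

The involutions are `-1`, the sign changes on octads, their negatives and the sign changes on
dodecads, up to conjugation.
-/

set_option autoImplicit false
set_option maxRecDepth 20000

namespace Cfsg.Agent.Lib.StdCo0

open Cfsg Cfsg.Agent.Lib Cfsg.Agent.Lib.Leech
open Cfsg.Agent.Lib.Co1Mult.Cross (dg dg_eightE dg_xor dg_sq dg_comm dg_inj dg_mem exists_dg dg_zero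
  permHom_flip dg_mod)
open Cfsg.Agent.Lib.Golay (enc enc_lt enc_mod inCode_enc setOfMask permMask inM24 gperm pc24)
open scoped Pointwise

/-- The permutation matrix coefficient sum on the axes (eight times the trace). -/
def tr (g : Co0) : ℤ := ∑ i, vec (g • eightE i) i

theorem coord_mul (g h : Co0) (i b : GolayPt) :
    8 * vec ((g * h) • eightE b) i = ∑ j, vec (g • eightE j) i * vec (h • eightE b) j := by
  have e := congrArg (toHom g) (eight_smul_eq_sum (h • eightE b))
  rw [map_zsmul, map_sum, toHom_apply, ← mul_smul] at e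
  have e1 := congrFun (congrArg vec e) i
  simp only [vec, AddSubgroup.coe_zsmul, AddSubgroup.val_finsetSum, Finset.sum_apply, map_zsmul,
    Pi.smul_apply, smul_eq_mul, toHom_apply] at e1
  rw [e1]
  exact Finset.sum_congr rfl fun j _ => mul_comm _ _

theorem tr_mul_comm (g h : Co0) : tr (g * h) = tr (h * g) := by
  have key : ∀ a b : Co0, 8 * tr (a * b) = ∑ i, ∑ j, vec (a • eightE j) i * vec (b • eightE i) j := by
    intro a b
    rw [tr, Finset.mul_sum]
    exact Finset.sum_congr rfl fun i _ => coord_mul a b i i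
  have h8 : 8 * tr (g * h) = 8 * tr (h * g) := by
    rw [key, key, Finset.sum_comm]
    exact Finset.sum_congr rfl fun i _ => Finset.sum_congr rfl fun j _ => mul_comm _ _
  omega

theorem tr_conj {x y : Co0} (h : IsConj x y) : tr x = tr y := by
  obtain ⟨c, rfl⟩ := isConj_iff.1 h
  rw [tr_mul_comm (c * x) c⁻¹, inv_mul_cancel_left]

theorem tr_dg {k : ℕ} (hk : k < 4096) : tr (dg k) = 8 * (24 - 2 * (pc24 (enc k) : ℤ)) := by
  rw [← Golay.card_setOfMask]
  have e : ∀ i, vec (dg k • eightE i) i = if i ∈ setOfMask (enc k) then -8 else 8 := fun i => by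
    rw [dg_eightE, Nat.mod_eq_of_lt hk]
    split_ifs <;> simp [eightE, vec]
  simp only [tr, e, Finset.sum_ite, Finset.sum_const, smul_neg, nsmul_eq_mul]
  rw [Finset.filter_mem_eq_inter, Finset.univ_inter, Finset.filter_not, Finset.filter_mem_eq_inter,
    Finset.univ_inter, Finset.card_univ_sdiff, Golay.card_golayPt]
  have hle : (setOfMask (enc k)).card ≤ 24 := by
    rw [← Golay.card_golayPt]; exact Finset.card_le_univ _
  push_cast [hle]
  ring

/-! ### Sign changes -/

theorem negOne_eq : negOne = dg 4095 := by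
  have hall : ∀ i : GolayPt, i ∈ setOfMask (enc (4095 % 4096)) := by decide +kernel
  refine co0_ext fun i => ?_
  rw [dg_eightE, if_pos (hall i), negOne_smul]

theorem dg_mul_negOne (k : ℕ) : dg k * negOne = dg (k ^^^ 4095) := by rw [negOne_eq, dg_xor]

theorem permHom_dg {σ : M24} {a b : ℕ} (ha : a < 4096) (hb : b < 4096)
    (h : (σ : Equiv.Perm GolayPt) • setOfMask (enc a) = setOfMask (enc b)) :
    permHom σ * dg a * (permHom σ)⁻¹ = dg b := by
  rw [mul_inv_eq_iff_eq_mul, dg, dg]
  refine permHom_flip _ _ fun p => ?_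
  simp only [Nat.mod_eq_of_lt ha, Nat.mod_eq_of_lt hb]
  rw [← h]
  exact Finset.smul_mem_smul_finset_iff _

/-- Conjugation of a sign change by a coded element of the code group. -/
theorem code_dg {c : ℕ} (hc : Golay.okCode c = true) (hM : gperm c ∈ M24) {k : ℕ} (hk : k < 4096) :
    ∃ j < 4096, permMask c (enc k) = enc j ∧
      permHom ⟨gperm c, hM⟩ * dg k * (permHom ⟨gperm c, hM⟩)⁻¹ = dg j := by
  have hs : gperm c • setOfMask (enc k) = setOfMask (permMask c (enc k)) := Golay.smul_setOfMask hc _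
  obtain ⟨d, hd, e⟩ : ∃ d, d ∈ LeechMod2.Frame.diag ∧
      permHom ⟨gperm c, hM⟩ * dg k * (permHom ⟨gperm c, hM⟩)⁻¹ = d :=
    ⟨_, LeechMod2.Frame.cross_conj_diag (LeechMod2.Frame.permHom_mem_cross _) (dg_mem k), rfl⟩
  obtain ⟨j, hj, rfl⟩ := exists_dg hd
  refine ⟨j, hj, Golay.setOfMask_injOn (Golay.permMask_lt hc _) (enc_lt hj) ?_, e⟩
  rw [← hs]
  ext p
  have e1 := congrArg (fun g : Co0 => vec (g • eightE p) p) e
  obtain ⟨q, rfl⟩ : ∃ q, gperm c q = p := ⟨(gperm c)⁻¹ p, by simp⟩
  have hinv : (permHom ⟨gperm c, hM⟩)⁻¹ • eightE (gperm c q) = eightE q := by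
    rw [inv_smul_eq_iff, permHom_eightE]
  have hiff : gperm c q ∈ gperm c • setOfMask (enc k) ↔ q ∈ setOfMask (enc k) :=
    Finset.smul_mem_smul_finset_iff _
  rw [hiff]
  simp only [mul_smul, hinv, dg_eightE, Nat.mod_eq_of_lt hk, Nat.mod_eq_of_lt hj] at e1
  by_cases h1 : q ∈ setOfMask (enc k) <;> by_cases h2 : gperm c q ∈ setOfMask (enc j) <;>
    simp only [h1, h2, if_true, if_false, iff_self, iff_true, iff_false, not_true_eq_false,
      smul_neg', permHom_eightE] at e1 ⊢ <;>
    simp [eightE, vec] at e1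

/-- The octad sign change. -/
noncomputable def oo : Co0 := dg 2600

/-- Its negative. -/
noncomputable def ss : Co0 := dg 1495

/-- The dodecad sign change. -/
noncomputable def dd : Co0 := dg 63

theorem ss_eq : ss = oo * negOne := by rw [oo, dg_mul_negOne]; rfl

theorem conj_oo {k : ℕ} (hk : k < 4096) (h : pc24 (enc k) = 8) : IsConj (dg k) oo := by
  have hw : ∀ j < 4096, pc24 (enc j) = 8 → setOfMask (enc j) ∈ octads := fun j hj hj8 =>
    Golay.mem_wordsOfWeight_iff.2 ⟨enc j, Golay.mem_masksOfWeight.2 ⟨inCode_enc hj, hj8⟩, rfl⟩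
  have h0 : pc24 (enc 2600) = 8 := by decide +kernel
  obtain ⟨σ, hσ, e⟩ := Golay.transitive_octads (hw k hk h) (hw 2600 (by norm_num) h0)
  exact isConj_iff.2 ⟨permHom ⟨σ, hσ⟩, permHom_dg hk (by norm_num) e⟩

theorem conj_dd {k : ℕ} (hk : k < 4096) (h : pc24 (enc k) = 12) : IsConj (dg k) dd := by
  have hw : ∀ j < 4096, pc24 (enc j) = 12 → setOfMask (enc j) ∈ dodecads := fun j hj hj8 =>
    Golay.mem_wordsOfWeight_iff.2 ⟨enc j, Golay.mem_masksOfWeight.2 ⟨inCode_enc hj, hj8⟩, rfl⟩
  have h0 : pc24 (enc 63) = 12 := by decide +kernel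
  have hpts : ∀ j < 4096, pc24 (enc j) = 12 →
      (∃ a, a ∈ setOfMask (enc j)) ∧ ∃ e, e ∉ setOfMask (enc j) := fun j hj hj12 => by
    have hc : (setOfMask (enc j)).card = 12 := by rw [Golay.card_setOfMask, hj12]
    refine ⟨Finset.card_pos.1 (by omega), ?_⟩
    classical
    have hpos : 0 < ((setOfMask (enc j))ᶜ).card := by
      rw [Finset.card_compl, Golay.card_golayPt, hc]; norm_num
    obtain ⟨e, he⟩ := Finset.card_pos.1 hpos
    exact ⟨e, Finset.mem_compl.1 he⟩
  obtain ⟨⟨a, ha⟩, e, he⟩ := hpts k hk h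
  obtain ⟨⟨a', ha'⟩, e', he'⟩ := hpts 63 (by norm_num) h0
  obtain ⟨σ, hσ, e1, -, -⟩ :=
    GolayUnique.M24_dodecad_flag (hw k hk h) (hw 63 (by norm_num) h0) ha he ha' he'
  refine isConj_iff.2 ⟨permHom ⟨σ, hσ⟩, permHom_dg hk (by norm_num) ?_⟩
  rw [← e1, Finset.map_eq_image]
  rfl

theorem conj_ss {k : ℕ} (hk : k < 4096) (h : pc24 (enc (k ^^^ 4095)) = 8) : IsConj (dg k) ss := by
  have hk' : k ^^^ 4095 < 4096 := Nat.xor_lt_two_pow (n := 12) hk (by norm_num)
  obtain ⟨c, hc⟩ := isConj_iff.1 (conj_oo hk' h)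
  refine isConj_iff.2 ⟨c, ?_⟩
  have e : dg k = dg (k ^^^ 4095) * negOne := by
    rw [dg_mul_negOne, Nat.xor_assoc, Nat.xor_self, Nat.xor_zero]
  have hcen := Subgroup.mem_center_iff.1 negOne_mem_center
  rw [e, ss_eq, ← hc]
  simp only [mul_assoc, hcen c⁻¹]

theorem negOne_sq : negOne * negOne = (1 : Co0) := by rw [negOne_eq, dg_sq]

theorem dd_neg : IsConj (dd * negOne) dd := by
  rw [dd, dg_mul_negOne]
  exact conj_dd (by decide +kernel) (by decide +kernel)

/-! ### The three classes modulo the centre -/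

/-- A permutation exchanging the dodecad and its complement. -/
def swapCode : ℕ := 7328530804986087658901574229797431

theorem exists_sq_negOne : ∃ x : Co0, x * x = negOne := by
  have hok : inM24 swapCode = true := by decide +kernel
  have hinv : Computation.mulP 24 5 swapCode swapCode = Golay.oneCode := by decide +kernel
  have himg : permMask swapCode (enc 63) = enc 4032 := by decide +kernel
  have hc := Golay.okCode_of_inM24 hok
  have hM := Golay.gperm_mem_M24 hok
  obtain ⟨j, hj, e, hconj⟩ := code_dg hc hM (k := 63) (by norm_num)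
  have hj4 : j = 4032 := by
    rw [← enc_mod hj, ← e, himg, enc_mod (by norm_num)]
  subst hj4
  have hσ : (⟨gperm swapCode, hM⟩ : M24) * ⟨gperm swapCode, hM⟩ = 1 :=
    Subtype.ext (by
      show gperm swapCode * gperm swapCode = 1
      rw [← Golay.gperm_mul hc hc, hinv, Golay.gperm_oneCode])
  refine ⟨permHom ⟨gperm swapCode, hM⟩ * dg 63, ?_⟩
  set p := permHom ⟨gperm swapCode, hM⟩ with hp
  have hpp : p⁻¹ = p := inv_eq_of_mul_eq_one_right (by rw [hp, ← map_mul, hσ, map_one])
  rw [hpp] at hconj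
  rw [← mul_assoc, hconj, ← dg_xor, negOne_eq]
  rfl

/-- The quotient map onto the simple group. -/
noncomputable abbrev bar : Co0 →* Spor.Co1 := LeechMod2.Frame.bar

theorem bar_eq {x y : Co0} (h : bar x = bar y) : x = y ∨ x = y * negOne := by
  have h1 : bar (y⁻¹ * x) = 1 := by rw [map_mul, map_inv, h, inv_mul_cancel]
  rcases center_co0_eq (LeechMod2.Frame.bar_eq_one.1 h1) with e | e
  · exact Or.inl (inv_mul_eq_one.1 e).symm
  · exact Or.inr (by rw [← e, mul_inv_cancel_left])

theorem of_isConj_bar {x y : Co0} (h : IsConj (bar x) (bar y)) :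
    IsConj x y ∨ IsConj x (y * negOne) := by
  obtain ⟨c', hc⟩ := isConj_iff.1 h
  obtain ⟨c, rfl⟩ := LeechMod2.Frame.bar_surjective c'
  rw [← map_inv, ← map_mul, ← map_mul] at hc
  rcases bar_eq hc with e | e
  · exact Or.inl (isConj_iff.2 ⟨c, e⟩)
  · exact Or.inr (isConj_iff.2 ⟨c, e⟩)

theorem sq_eq_of_bar {x y : Co0} (h : IsConj (bar x) (bar y)) :
    ∃ c : Co0, c * (x * x) * c⁻¹ = y * y := by
  have hcen := Subgroup.mem_center_iff.1 negOne_mem_center
  rcases of_isConj_bar h with e | e <;> obtain ⟨c, hc⟩ := isConj_iff.1 e <;>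
    refine ⟨c, ?_⟩ <;> rw [show c * (x * x) * c⁻¹ = c * x * c⁻¹ * (c * x * c⁻¹) by group, hc]
  rw [mul_assoc, ← mul_assoc negOne y negOne, ← hcen y, mul_assoc y negOne negOne, negOne_sq, mul_one]

/-- Every involution of the lattice group is one of the four types. -/
theorem involution_cases {x : Co0} (hx : x * x = 1) :
    x = 1 ∨ x = negOne ∨ IsConj x oo ∨ IsConj x ss ∨ IsConj x dd := by
  by_cases hz : x ∈ Subgroup.center Co0
  · rcases center_co0_eq hz with h | h
    · exact Or.inl h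
    · exact Or.inr (Or.inl h)
  refine Or.inr (Or.inr ?_)
  obtain ⟨z, hzo, Q, hQn, hF, hQ, hcard, ⟨e⟩, hnwc⟩ := Co1Cent.main
  obtain ⟨a, b, c, -, -, -, -, -, -, hall⟩ :=
    Co1Type31.three_classes_of z hzo Q hF hQ hcard e hnwc
  obtain ⟨i, hi⟩ := exists_sq_negOne
  have hord : ∀ y : Co0, y * y ∈ Subgroup.center Co0 → y ∉ Subgroup.center Co0 →
      orderOf (bar y) = 2 := fun y h1 h2 => by
    refine orderOf_eq_prime ?_ fun h => h2 (LeechMod2.Frame.bar_eq_one.1 h)
    rw [sq, ← map_mul]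
    exact LeechMod2.Frame.bar_eq_one.2 h1
  have htr : tr oo = 64 ∧ tr ss = -64 ∧ tr dd = 0 ∧ tr (1 : Co0) = 192 ∧ tr negOne = -192 := by
    rw [negOne_eq, ← dg_zero, oo, ss, dd, tr_dg (by norm_num), tr_dg (by norm_num),
      tr_dg (by norm_num), tr_dg (by norm_num), tr_dg (by norm_num)]
    decide +kernel
  have hnc : ∀ y : Co0, tr y ≠ 192 → tr y ≠ -192 → y ∉ Subgroup.center Co0 := fun y h1 h2 h => by
    rcases center_co0_eq h with rfl | rfl
    · exact h1 htr.2.2.2.1
    · exact h2 htr.2.2.2.2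
  have hio : i ∉ Subgroup.center Co0 := fun h => by
    rcases center_co0_eq h with rfl | rfl
    · exact negOne_ne_one (by rw [← hi, one_mul])
    · exact negOne_ne_one (by rw [← hi, negOne_sq])
  have ho := hord oo (by rw [oo, dg_sq]; exact one_mem _) (hnc oo (by omega) (by omega))
  have hd := hord dd (by rw [dd, dg_sq]; exact one_mem _) (hnc dd (by omega) (by omega))
  have hI := hord i (by rw [hi]; exact negOne_mem_center) hio
  have hX := hord x (by rw [hx]; exact one_mem _) hz
  have hod : ¬ IsConj (bar oo) (bar dd) := fun h => by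
    rcases of_isConj_bar h with e | e
    · have := tr_conj e; omega
    · have := (tr_conj e).trans (tr_conj dd_neg); omega
  have hsqo : oo * oo = 1 := by rw [oo, dg_sq]
  have hsqd : dd * dd = 1 := by rw [dd, dg_sq]
  have hne : ∀ y : Co0, y * y = 1 → ¬ IsConj (bar y) (bar i) := fun y hy h => by
    obtain ⟨c, hc⟩ := sq_eq_of_bar h
    rw [hy, mul_one, mul_inv_cancel, hi] at hc
    exact negOne_ne_one hc.symm
  have hmem : IsConj (bar x) (bar oo) ∨ IsConj (bar x) (bar dd) := by
    have hxi := hne x hx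
    have hoi := hne oo hsqo
    have hdi := hne dd hsqd
    rcases hall _ ho with h1 | h1 | h1 <;> rcases hall _ hd with h2 | h2 | h2 <;>
      rcases hall _ hI with h3 | h3 | h3 <;> rcases hall _ hX with h4 | h4 | h4 <;>
      first
        | exact absurd (h1.trans h2.symm) hod
        | exact absurd (h1.trans h3.symm) hoi
        | exact absurd (h2.trans h3.symm) hdi
        | exact absurd (h4.trans h3.symm) hxi
        | exact Or.inl (h4.trans h1.symm)
        | exact Or.inr (h4.trans h2.symm)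
  rcases hmem with h | h <;> rcases of_isConj_bar h with e | e
  · exact Or.inl e
  · exact Or.inr (Or.inl (ss_eq ▸ e))
  · exact Or.inr (Or.inr e)
  · exact Or.inr (Or.inr (e.trans dd_neg))

end Cfsg.Agent.Lib.StdCo0
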