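import Cfsg.Agent.Lib.StdCo0.Sylow
import Cfsg.Prelude.Def_TwoFusion

/-!
# Fusion of the central involution of a standard copy of the lattice group

`φ` embeds the lattice group, `z` is the image of `-1`, the centralizer of `z` is the image times the
centralizer of the image, which has cyclic Sylow two-subgroups.  Then `z` is isolated.
-/

set_option autoImplicit false
set_option maxRecDepth 20000

namespace Cfsg.Agent.Lib.StdCo0

open Cfsg Cfsg.Agent.Lib Cfsg.Agent.Lib.Leech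
open Cfsg.Agent.Lib.Co1Mult.Cross (dg dg_xor dg_sq dg_comm dg_inj)
open Cfsg.Agent.Lib.Golay (enc pc24)

theorem neg_comm (x : Co0) : x * negOne = negOne * x :=
  Subgroup.mem_center_iff.1 negOne_mem_center x

theorem conj_neg {x y : Co0} (h : IsConj x y) : IsConj (x * negOne) (y * negOne) := by
  obtain ⟨c, rfl⟩ := isConj_iff.1 h
  refine isConj_iff.2 ⟨c, ?_⟩
  rw [← mul_assoc, mul_assoc (c * x) negOne c⁻¹, ← neg_comm c⁻¹, ← mul_assoc]

theorem ss_neg : ss * negOne = oo := by rw [ss_eq, mul_assoc, negOne_sq, mul_one]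

variable {G : Type*} [Group G] [Finite G]

/-- The hypotheses on the embedded lattice group. -/
structure Setup (φ : Co0 →* G) : Prop where
  inj : Function.Injective φ
  fac : ∀ h : G, Commute h (φ negOne) →
    ∃ a : Co0, ∃ c ∈ Subgroup.centralizer (φ.range : Set G), h = φ a * c
  cyc : ∀ R : Sylow 2 ↥(Subgroup.centralizer (φ.range : Set G)),
    IsCyclic (R : Subgroup ↥(Subgroup.centralizer (φ.range : Set G)))

variable {φ : Co0 →* G}

/-- Fused with the central involution. -/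
def Fused (φ : Co0 →* G) (x : Co0) : Prop := IsConj (φ negOne) (φ x)

theorem fused_congr {x y : Co0} (h : IsConj x y) : Fused φ x ↔ Fused φ y :=
  ⟨fun hx => hx.trans (φ.map_isConj h), fun hy => hy.trans (φ.map_isConj h).symm⟩

theorem fused_negOne : Fused φ negOne := IsConj.refl _

theorem mem_C {c : G} (hc : c ∈ Subgroup.centralizer (φ.range : Set G)) (x : Co0) :
    φ x * c = c * φ x :=
  Subgroup.mem_centralizer_iff.1 hc _ ⟨x, rfl⟩

theorem z_mem : φ negOne ∈ Subgroup.centralizer (φ.range : Set G) := by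
  rintro _ ⟨x, rfl⟩
  rw [← map_mul, ← map_mul, neg_comm]

theorem Setup.z_ne (S : Setup φ) : φ negOne ≠ 1 := fun h =>
  negOne_ne_one (S.inj (h.trans φ.map_one.symm))

theorem z_sq : φ negOne * φ negOne = 1 := by rw [← map_mul, negOne_sq, map_one]

/-- An element of the lattice group whose image centralizes the image is central. -/
theorem Setup.central_of_mem (S : Setup φ) {a : Co0}
    (h : φ a ∈ Subgroup.centralizer (φ.range : Set G)) : a = 1 ∨ a = negOne := by
  refine center_co0_eq (Subgroup.mem_center_iff.2 fun x => S.inj ?_)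
  rw [map_mul, map_mul, mem_C h x]

/-- The only involution of the centralizer of the image. -/
theorem Setup.invC (S : Setup φ) {c : G} (hc : c ∈ Subgroup.centralizer (φ.range : Set G))
    (h2 : c * c = 1) : c = 1 ∨ c = φ negOne := by
  haveI : Fact (Nat.Prime 2) := ⟨Nat.prime_two⟩
  by_cases hc1 : c = 1
  · exact Or.inl hc1
  set C := Subgroup.centralizer (φ.range : Set G) with hC
  have hz : φ negOne ∈ C := z_mem
  have hzc : Commute (φ negOne) c := mem_C hc negOne
  set x : C := ⟨c, hc⟩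
  set y : C := ⟨φ negOne, hz⟩
  have hxy : Commute y x := Subtype.ext hzc
  have hx : orderOf x = 2 := orderOf_eq_prime (by rw [sq]; exact Subtype.ext h2)
    fun h => hc1 (congrArg Subtype.val h)
  have hy : orderOf y = 2 := orderOf_eq_prime (by rw [sq]; exact Subtype.ext z_sq)
    fun h => S.z_ne (congrArg Subtype.val h)
  have hp : IsPGroup 2 ↥(Subgroup.closure ({x, y} : Set C)) := by
    have hcomm : IsMulCommutative ↥(Subgroup.closure ({x, y} : Set C)) :=
      Subgroup.isMulCommutative_closure (by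
        rintro a (rfl | rfl) b (rfl | rfl)
        · rfl
        · exact hxy.symm
        · exact hxy
        · rfl)
    intro g
    refine ⟨1, Subtype.ext ?_⟩
    obtain ⟨g, hg⟩ := g
    show g ^ 2 ^ 1 = 1
    rw [pow_one]
    refine Subgroup.closure_induction (p := fun a _ => a ^ 2 = 1) ?_ (one_pow 2) ?_ ?_ hg
    · rintro a (rfl | rfl)
      · rw [← hx]; exact pow_orderOf_eq_one _
      · rw [← hy]; exact pow_orderOf_eq_one _
    · intro a b ha hb ea eb
      have hab : Commute a b := congrArg Subtype.val (hcomm.1.comm ⟨a, ha⟩ ⟨b, hb⟩)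
      rw [hab.mul_pow, ea, eb, one_mul]
    · intro a _ ea
      rw [inv_pow, ea, inv_one]
  obtain ⟨R, hR⟩ := hp.exists_le_sylow
  haveI := S.cyc R
  have hxR : x ∈ (R : Subgroup C) := hR (Subgroup.subset_closure (by simp))
  have hyR : y ∈ (R : Subgroup C) := hR (Subgroup.subset_closure (by simp))
  refine Or.inr ?_
  classical
  haveI : Fintype (R : Subgroup C) := Fintype.ofFinite _
  by_contra hne
  have hle := IsCyclic.card_pow_eq_one_le (α := (R : Subgroup C)) (n := 2) (by norm_num)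
  have h3 : ({1, ⟨x, hxR⟩, ⟨y, hyR⟩} : Finset (R : Subgroup C)).card = 3 := by
    rw [Finset.card_eq_three]
    refine ⟨1, ⟨x, hxR⟩, ⟨y, hyR⟩, ?_, ?_, ?_, rfl⟩
    · exact fun h => hc1 (congrArg (fun r : (R : Subgroup C) => ((r : C) : G)) h.symm)
    · exact fun h => S.z_ne (congrArg (fun r : (R : Subgroup C) => ((r : C) : G)) h.symm)
    · exact fun h => hne (congrArg (fun r : (R : Subgroup C) => ((r : C) : G)) h)
  have hsub : ({1, ⟨x, hxR⟩, ⟨y, hyR⟩} : Finset (R : Subgroup C)) ⊆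
      Finset.univ.filter fun g => g ^ 2 = 1 := by
    intro g hg
    simp only [Finset.mem_insert, Finset.mem_singleton] at hg
    refine Finset.mem_filter.2 ⟨Finset.mem_univ _, ?_⟩
    rcases hg with rfl | rfl | rfl
    · exact one_pow 2
    · refine Subtype.ext (?_ : x ^ 2 = 1)
      rw [← hx, pow_orderOf_eq_one]
    · refine Subtype.ext (?_ : y ^ 2 = 1)
      rw [← hy, pow_orderOf_eq_one]
  have := Finset.card_le_card hsub
  omega

/-- A conjugate of `z` commuting with `z` lies in the image. -/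
theorem Setup.mem_range (S : Setup φ) {y : G} (hy : IsConj (φ negOne) y)
    (hyz : Commute y (φ negOne)) : ∃ x, φ x = y := by
  haveI : Fact (Nat.Prime 2) := ⟨Nat.prime_two⟩
  set C := Subgroup.centralizer (φ.range : Set G) with hC
  obtain ⟨g, rfl⟩ := isConj_iff.1 hy
  have split : ∀ {t : G} {a : Co0} {c : G}, c ∈ C → t = φ a * c → t * t = 1 →
      φ (a * a) * (c * c) = 1 ∧ (a * a = 1 ∨ a * a = negOne) := by
    intro t a c hc ht h2
    have e : φ (a * a) * (c * c) = 1 := by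
      rw [map_mul, ← h2, ht]
      calc φ a * φ a * (c * c) = φ a * (φ a * c) * c := by group
        _ = φ a * (c * φ a) * c := by rw [mem_C hc a]
        _ = _ := by group
    refine ⟨e, S.central_of_mem ?_⟩
    rw [eq_inv_of_mul_eq_one_left e]
    exact inv_mem (mul_mem hc hc)
  obtain ⟨a, c, hc, hac⟩ := S.fac _ hyz
  have h2 : g * φ negOne * g⁻¹ * (g * φ negOne * g⁻¹) = 1 := by
    rw [show g * φ negOne * g⁻¹ * (g * φ negOne * g⁻¹) = g * (φ negOne * φ negOne) * g⁻¹ by group,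
      z_sq, mul_one, mul_inv_cancel]
  obtain ⟨e, ha | ha⟩ := split hc hac h2
  · rw [ha, map_one, one_mul] at e
    rcases S.invC hc e with rfl | rfl
    · exact ⟨a, by rw [hac, mul_one]⟩
    · exact ⟨a * negOne, by rw [hac, map_mul]⟩
  -- now the centralizer of the image has an element of order four
  rw [ha] at e
  have hc4 : orderOf (⟨c, hc⟩ : C) = 2 ^ 2 := by
    have hcc : c * c = φ negOne := by
      rw [eq_inv_of_mul_eq_one_right e, inv_eq_of_mul_eq_one_right z_sq]
    refine orderOf_eq_prime_pow ?_ ?_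
    · rw [pow_one, sq]
      exact fun h => S.z_ne (by rw [← hcc]; exact congrArg Subtype.val h)
    · refine Subtype.ext ?_
      show c ^ 2 ^ 2 = 1
      rw [show (2 : ℕ) ^ 2 = 2 * 2 by norm_num, pow_mul, sq, sq, hcc, z_sq]
  set z' := g⁻¹ * φ negOne * g with hz'
  have hz'z : Commute z' (φ negOne) := by
    have e1 := congrArg (fun t => g⁻¹ * t * g) hyz.eq
    simp only [hz', Commute, SemiconjBy]
    calc _ = g⁻¹ * (φ negOne * (g * φ negOne * g⁻¹)) * g := by group
      _ = g⁻¹ * (g * φ negOne * g⁻¹ * φ negOne) * g := e1.symm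
      _ = _ := by group
  obtain ⟨a', c', hc', hac'⟩ := S.fac _ hz'z
  obtain ⟨e', -⟩ := split hc' hac' (by
    rw [hz', show g⁻¹ * φ negOne * g * (g⁻¹ * φ negOne * g) = g⁻¹ * (φ negOne * φ negOne) * g by
      group, z_sq, mul_one, inv_mul_cancel])
  have hc'4 : c' ^ 2 ^ 2 = 1 := by
    have h1 : c' * c' = φ ((a' * a')⁻¹) := by rw [map_inv]; exact eq_inv_of_mul_eq_one_right e'
    rcases S.central_of_mem (h1 ▸ mul_mem hc' hc') with h | h <;>
      rw [show (2 : ℕ) ^ 2 = 2 * 2 by norm_num, pow_mul, sq, sq, h1, h]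
    · rw [map_one, one_mul]
    · exact z_sq
  obtain ⟨R, hR⟩ := (IsPGroup.of_card (p := 2) (G := ↥(Subgroup.zpowers (⟨c', hc'⟩ : C)))
    (n := Nat.factorization (orderOf (⟨c', hc'⟩ : C)) 2) (by
      rw [Nat.card_zpowers]
      obtain ⟨i, -, hi⟩ := (Nat.dvd_prime_pow Nat.prime_two).1
        (orderOf_dvd_of_pow_eq_one (show (⟨c', hc'⟩ : C) ^ 2 ^ 2 = 1 from Subtype.ext hc'4))
      rw [hi, Nat.Prime.factorization_pow Nat.prime_two]
      simp)).exists_le_sylow
  haveI := S.cyc R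
  obtain ⟨r0, hr0⟩ := IsCyclic.exists_ofOrder_eq_natCard (α := (R : Subgroup C))
  obtain ⟨n, hn⟩ := IsPGroup.iff_card.1 R.2
  have hn2 : 2 ^ 2 ∣ Nat.card (R : Subgroup C) := by
    rw [Sylow.card_eq_multiplicity]
    exact pow_dvd_pow 2 ((Nat.prime_two.pow_dvd_iff_le_factorization Nat.card_pos.ne').1
      (hc4 ▸ orderOf_dvd_natCard _))
  rw [hn] at hn2
  have hn2' : 2 ≤ n := (Nat.pow_dvd_pow_iff_le_right (by norm_num)).1 hn2
  obtain ⟨m, rfl⟩ : ∃ m, n = m + 1 := ⟨n - 1, by omega⟩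
  set r : G := ((r0 : C) : G) with hr
  have hrC : r ∈ C := (r0 : C).2
  have hord : orderOf r = 2 ^ (m + 1) := by
    rw [hr, Subgroup.orderOf_coe, Subgroup.orderOf_coe, hr0, hn]
  have hrm : r ^ 2 ^ m = φ negOne := by
    refine (S.invC (pow_mem hrC _) ?_).resolve_left ?_
    · rw [← sq, ← pow_mul, ← pow_succ, ← hord, pow_orderOf_eq_one]
    · exact pow_ne_one_of_lt_orderOf (by positivity) (by rw [hord]; gcongr <;> norm_num)
  have hrc' : Commute r c' := by
    letI : CommGroup (R : Subgroup C) := IsCyclic.commGroup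
    have hm : (⟨c', hc'⟩ : C) ∈ (R : Subgroup C) := hR (Subgroup.mem_zpowers _)
    exact congrArg (fun t : (R : Subgroup C) => ((t : C) : G)) (mul_comm r0 ⟨_, hm⟩)
  have hrz : Commute r z' := by
    rw [hac']
    exact Commute.mul_right (mem_C hrC a').symm hrc'
  have hgr : Commute (g * r * g⁻¹) (φ negOne) := by
    have h := (hrz.map (MulAut.conj g).toMonoidHom)
    simp only [MulEquiv.coe_toMonoidHom, MulAut.conj_apply, hz'] at h
    rwa [show g * (g⁻¹ * φ negOne * g) * g⁻¹ = φ negOne by group] at h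
  obtain ⟨b, d, hd, hbd⟩ := S.fac _ hgr
  have hcm : Commute (φ b) d := mem_C hd b
  have hpow : ∀ k : ℕ, (g * r * g⁻¹) ^ k = φ (b ^ k) * d ^ k := fun k => by
    rw [hbd, hcm.mul_pow, map_pow]
  have hd1 : d ^ 2 ^ (m + 1) = 1 := by
    have h := hpow (2 ^ (m + 1))
    rw [conj_pow, ← hord, pow_orderOf_eq_one, mul_one, mul_inv_cancel, hord] at h
    have h' : φ (b ^ 2 ^ (m + 1)) = (d ^ 2 ^ (m + 1))⁻¹ := eq_inv_of_mul_eq_one_left h.symm
    have hd2 : d ^ 2 ^ (m + 1 + 1) = 1 := by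
      rw [pow_succ, pow_mul, sq, ← inv_inj, mul_inv_rev, ← h', ← map_mul, inv_one]
      rcases S.central_of_mem (h' ▸ inv_mem (pow_mem hd _)) with e | e <;> rw [e]
      · rw [one_mul, map_one]
      · rw [negOne_sq, map_one]
    obtain ⟨i, -, hi⟩ := (Nat.dvd_prime_pow Nat.prime_two).1
      (orderOf_dvd_of_pow_eq_one (show (⟨d, hd⟩ : C) ^ 2 ^ (m + 1 + 1) = 1 from Subtype.ext hd2))
    have hdd : orderOf (⟨d, hd⟩ : C) ∣ 2 ^ (m + 1) := by
      rw [← hn, Sylow.card_eq_multiplicity, hi]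
      exact pow_dvd_pow 2 ((Nat.prime_two.pow_dvd_iff_le_factorization Nat.card_pos.ne').1
        (hi ▸ orderOf_dvd_natCard _))
    exact congrArg Subtype.val (orderOf_dvd_iff_pow_eq_one.1 hdd)
  have hy' : g * φ negOne * g⁻¹ = φ (b ^ 2 ^ m) * d ^ 2 ^ m := by
    rw [← hrm, ← conj_pow, hpow]
  rcases S.invC (pow_mem hd (2 ^ m)) (by rw [← sq, ← pow_mul, ← pow_succ, hd1]) with h | h
  · exact ⟨_, by rw [hy', h, mul_one]⟩
  · exact ⟨b ^ 2 ^ m * negOne, by rw [hy', h, map_mul]⟩

/-- Moving a fused element to `z` carries commuting fused elements into the image. -/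
theorem Setup.transport (S : Setup φ) {x₁ : Co0} (h₁ : Fused φ x₁) :
    ∃ g : G, g * φ x₁ * g⁻¹ = φ negOne ∧
      ∀ x, Fused φ x → Commute x x₁ → ∃ y, Fused φ y ∧ φ y = g * φ x * g⁻¹ := by
  obtain ⟨g, hg⟩ := isConj_iff.1 h₁.symm
  refine ⟨g, hg, fun x hx hc => ?_⟩
  have hcm : Commute (g * φ x * g⁻¹) (φ negOne) := by
    have h := (hc.map φ).map (MulAut.conj g).toMonoidHom
    simp only [MulEquiv.coe_toMonoidHom, MulAut.conj_apply] at h
    rwa [hg] at h
  have hconj : IsConj (φ negOne) (g * φ x * g⁻¹) := hx.trans (isConj_iff.2 ⟨g, rfl⟩)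
  obtain ⟨y, hy⟩ := S.mem_range hconj hcm
  refine ⟨y, ?_, hy⟩
  unfold Fused
  rw [hy]
  exact hconj

theorem fused_eq {x y : Co0} {g : G} (h : φ y = g * φ x * g⁻¹) : Fused φ y ↔ Fused φ x := by
  unfold Fused
  rw [h]
  exact ⟨fun e => e.trans (isConj_iff.2 ⟨g, rfl⟩).symm, fun e => e.trans (isConj_iff.2 ⟨g, rfl⟩)⟩

/-- Two commuting fused elements. -/
theorem Setup.line (S : Setup φ) {x₁ x₂ : Co0} (h₁ : Fused φ x₁) (h₂ : Fused φ x₂)
    (hc : Commute x₂ x₁) (hne : x₂ ≠ x₁) :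
    ∃ y, Fused φ y ∧ y * y = 1 ∧ y ≠ 1 ∧ y ≠ negOne ∧
      (Fused φ (y * negOne) ↔ Fused φ (x₂ * x₁)) := by
  obtain ⟨g, hg, h⟩ := S.transport h₁
  obtain ⟨y, hy, e⟩ := h x₂ h₂ hc
  obtain ⟨k, hk⟩ := isConj_iff.1 hy
  refine ⟨y, hy, S.inj ?_, ?_, ?_, ?_⟩
  · rw [map_mul, ← hk, map_one, show k * φ negOne * k⁻¹ * (k * φ negOne * k⁻¹) =
      k * (φ negOne * φ negOne) * k⁻¹ by group, z_sq, mul_one, mul_inv_cancel]
  · rintro rfl
    rw [map_one] at hk
    exact S.z_ne (conj_eq_one_iff.1 hk)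
  · rintro rfl
    exact hne (S.inj (mul_left_cancel (mul_right_cancel (e.symm.trans hg.symm))))
  · exact fused_eq (g := g) (by rw [map_mul, e, ← hg, map_mul]; group)

/-- A fused element with two commuting fused elements whose product is not fused. -/
theorem Setup.pair (S : Setup φ) {x₁ a b : Co0} (h₁ : Fused φ x₁) (ha : Fused φ a)
    (hb : Fused φ b) (hac : Commute a x₁) (hbc : Commute b x₁) :
    ∃ u, (Fused φ u ↔ Fused φ (a * b)) ∧ (Fused φ (u * negOne) ↔ Fused φ (a * b * x₁)) ∧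
      (u = 1 → a * b = 1) ∧ (Commute a b → a * a = 1 → b * b = 1 → u * u = 1) := by
  obtain ⟨g, hg, h⟩ := S.transport h₁
  obtain ⟨y, -, e⟩ := h a ha hac
  obtain ⟨v, -, e'⟩ := h b hb hbc
  have eu : φ (y * v) = g * φ (a * b) * g⁻¹ := by rw [map_mul, e, e', map_mul]; group
  refine ⟨y * v, fused_eq eu, fused_eq (g := g) ?_, fun h1 => S.inj ?_, fun hab ha2 hb2 => S.inj ?_⟩
  · rw [map_mul, eu, ← hg, map_mul φ (a * b) x₁]; group
  · rw [h1, map_one] at eu
    rw [map_one]
    exact conj_eq_one_iff.1 eu.symm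
  · rw [map_mul, eu, show g * φ (a * b) * g⁻¹ * (g * φ (a * b) * g⁻¹) =
      g * (φ (a * b) * φ (a * b)) * g⁻¹ by group, ← map_mul]
    rw [show a * b * (a * b) = a * a * (b * b) by
      rw [mul_assoc, ← mul_assoc b a b, ← hab.eq, mul_assoc a b b, ← mul_assoc]]
    rw [ha2, hb2, one_mul, map_one, mul_one, mul_inv_cancel]

theorem fused_cases {x : Co0} (hx : x * x = 1) (h1 : x ≠ 1) (hn : x ≠ negOne) :
    ((Fused φ x ↔ Fused φ oo) ∧ (Fused φ (x * negOne) ↔ Fused φ ss)) ∨
    ((Fused φ x ↔ Fused φ ss) ∧ (Fused φ (x * negOne) ↔ Fused φ oo)) ∨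
    ((Fused φ x ↔ Fused φ dd) ∧ (Fused φ (x * negOne) ↔ Fused φ dd)) := by
  rcases involution_cases hx with h | h | h | h | h
  · exact absurd h h1
  · exact absurd h hn
  · exact Or.inl ⟨fused_congr h, fused_congr (ss_eq ▸ conj_neg h)⟩
  · exact Or.inr (Or.inl ⟨fused_congr h, fused_congr (ss_neg ▸ conj_neg h)⟩)
  · exact Or.inr (Or.inr ⟨fused_congr h, fused_congr ((conj_neg h).trans dd_neg)⟩)

end Cfsg.Agent.Lib.StdCo0
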