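import Cfsg.Agent.Lib.StdCo0.AllFused

/-!
# The central involution is isolated

The patterns of fused types are excluded by products of commuting sign changes.
-/

set_option autoImplicit false
set_option maxRecDepth 20000

namespace Cfsg.Agent.Lib.StdCo0

open Cfsg Cfsg.Agent.Lib Cfsg.Agent.Lib.Leech
open Cfsg.Agent.Lib.Co1Mult.Cross (dg dg_xor dg_sq dg_comm dg_inj)
open Cfsg.Agent.Lib.Golay (enc pc24)

theorem dg_ne {a b : ℕ} (ha : a < 4096) (hb : b < 4096) (h : a ≠ b) : dg a ≠ dg b :=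
  fun e => h (dg_inj ha hb e)

theorem ss_types :
    (pc24 (enc 2600) = 8 ∧ pc24 (enc 2) = 8 ∧ pc24 (enc 2602) = 8 ∧ pc24 (enc 1) = 8 ∧
      pc24 (enc 3) = 8 ∧ pc24 (enc 6) = 8 ∧ pc24 (enc 1489) = 8) ∧
    (pc24 (enc (1495 ^^^ 4095)) = 8 ∧ pc24 (enc (4089 ^^^ 4095)) = 8 ∧
      pc24 (enc (2606 ^^^ 4095)) = 8 ∧ pc24 (enc (4093 ^^^ 4095)) = 8 ∧
      pc24 (enc (1493 ^^^ 4095)) = 8) ∧
    (pc24 (enc 2601) = 12 ∧ pc24 (enc 13) = 12 ∧ pc24 (enc 14) = 12) := by
  decide +kernel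

variable {G : Type*} [Group G] [Finite G] {φ : Co0 →* G}

theorem Setup.not_fused (S : Setup φ) :
    ¬ Fused φ oo ∧ ¬ Fused φ ss ∧ ¬ Fused φ dd := by
  obtain ⟨⟨wO, w2, w2602, w1, w3, w6, w1489⟩, ⟨s1495, s4089, s2606, s4093, s1493⟩, d2601, d13, d14⟩ :=
    ss_types
  have fo : ∀ {k}, k < 4096 → pc24 (enc k) = 8 → (Fused φ (dg k) ↔ Fused φ oo) :=
    fun hk h => fused_congr (conj_oo hk h)
  have fs : ∀ {k}, k < 4096 → pc24 (enc (k ^^^ 4095)) = 8 → (Fused φ (dg k) ↔ Fused φ ss) :=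
    fun hk h => fused_congr (conj_ss hk h)
  have fd : ∀ {k}, k < 4096 → pc24 (enc k) = 12 → (Fused φ (dg k) ↔ Fused φ dd) :=
    fun hk h => fused_congr (conj_dd hk h)
  have line : ∀ (a b c : ℕ), a < 4096 → b < 4096 → a ≠ b → b ^^^ a = c →
      Fused φ (dg a) → Fused φ (dg b) →
      ∃ y, Fused φ y ∧ (Fused φ (y * negOne) ↔ Fused φ (dg c)) ∧
        (((Fused φ y ↔ Fused φ oo) ∧ (Fused φ (y * negOne) ↔ Fused φ ss)) ∨
        ((Fused φ y ↔ Fused φ ss) ∧ (Fused φ (y * negOne) ↔ Fused φ oo)) ∨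
        ((Fused φ y ↔ Fused φ dd) ∧ (Fused φ (y * negOne) ↔ Fused φ dd))) := by
    intro a b c ha hb hab habc h1 h2
    obtain ⟨y, hy, y2, y1, yn, he⟩ := S.line h1 h2 (dg_comm b a) (dg_ne hb ha (Ne.symm hab))
    exact ⟨y, hy, by rwa [← habc, dg_xor], fused_cases y2 y1 yn⟩
  -- if the octad type or its negative is fused then so is the dodecad type
  have hd_of : (Fused φ oo ∨ Fused φ ss) → Fused φ dd := by
    intro h
    by_contra hd
    have hboth : Fused φ oo ∧ Fused φ ss := by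
      rcases h with h | h
      · obtain ⟨y, hy, hc, ⟨-, q⟩ | ⟨p, -⟩ | ⟨p, -⟩⟩ := line 2600 2 2602 (by norm_num) (by norm_num)
          (by norm_num) rfl ((fo (by norm_num) wO).2 h) ((fo (by norm_num) w2).2 h)
        · exact ⟨h, q.1 (hc.2 ((fo (by norm_num) w2602).2 h))⟩
        · exact ⟨h, p.1 hy⟩
        · exact absurd (p.1 hy) hd
      · obtain ⟨y, hy, hc, ⟨p, -⟩ | ⟨-, q⟩ | ⟨p, -⟩⟩ := line 1495 4089 2606 (by norm_num)
          (by norm_num) (by norm_num) rfl ((fs (by norm_num) s1495).2 h) ((fs (by norm_num) s4089).2 h)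
        · exact ⟨p.1 hy, h⟩
        · exact ⟨q.1 (hc.2 ((fs (by norm_num) s2606).2 h)), h⟩
        · exact absurd (p.1 hy) hd
    obtain ⟨y, hy, hc, ⟨-, q⟩ | ⟨-, q⟩ | ⟨p, -⟩⟩ := line 2600 1 2601 (by norm_num) (by norm_num)
      (by norm_num) rfl ((fo (by norm_num) wO).2 hboth.1) ((fo (by norm_num) w1).2 hboth.1)
    · exact hd ((fd (by norm_num) d2601).1 (hc.1 (q.2 hboth.2)))
    · exact hd ((fd (by norm_num) d2601).1 (hc.1 (q.2 hboth.1)))
    · exact hd (p.1 hy)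
  have pair : ∀ (x b c c' : ℕ), x < 4096 → b < 4096 → 4095 ^^^ b = c → c ^^^ x = c' → c ≠ 0 →
      c < 4096 → Fused φ (dg x) → Fused φ (dg b) → ¬ Fused φ (dg c) → ¬ Fused φ (dg c') →
      ((Fused φ oo ∨ Fused φ ss) → False) := by
    intro x b c c' hx hb hc hc' hc0 hcl h1 h2 h3 h4 hany
    obtain ⟨u, e1, e2, e3, e4⟩ := S.pair h1 (a := negOne) (b := dg b) fused_negOne h2
      (neg_comm (dg x)).symm (dg_comm b x)
    have hab : negOne * dg b = dg c := by rw [negOne_eq, ← dg_xor, hc]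
    rw [hab] at e1 e2 e3
    rw [← dg_xor, hc'] at e2
    have u2 := e4 (neg_comm (dg b)).symm negOne_sq (dg_sq b)
    have u1 : u ≠ 1 := fun h => dg_ne hcl (b := 0) (by norm_num) hc0
      ((e3 h).trans Co1Mult.Cross.dg_zero.symm)
    have un : u ≠ negOne := fun h => h3 (e1.1 (h ▸ fused_negOne))
    rcases fused_cases (φ := φ) u2 u1 un with ⟨p, q⟩ | ⟨p, q⟩ | ⟨p, q⟩
    · rcases hany with h | h
      · exact h3 (e1.1 (p.2 h))
      · exact h4 (e2.1 (q.2 h))
    · rcases hany with h | h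
      · exact h4 (e2.1 (q.2 h))
      · exact h3 (e1.1 (p.2 h))
    · exact h3 (e1.1 (p.2 (hd_of hany)))
  have hd0 : Fused φ dd → Fused φ oo ∨ Fused φ ss := by
    intro hd
    obtain ⟨y, hy, hc, ⟨p, -⟩ | ⟨p, -⟩ | ⟨-, q⟩⟩ := line 13 14 3 (by norm_num) (by norm_num)
      (by norm_num) rfl ((fd (by norm_num) d13).2 hd) ((fd (by norm_num) d14).2 hd)
    · exact Or.inl (p.1 hy)
    · exact Or.inr (p.1 hy)
    · exact Or.inl ((fo (by norm_num) w3).1 (hc.1 (q.2 hd)))
  have hnone : ¬ (Fused φ oo ∨ Fused φ ss) := by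
    intro h
    by_cases ho : Fused φ oo <;> by_cases hs : Fused φ ss
    · refine fused_ss_false S fun x x2 x1 => ?_
      rcases involution_cases x2 with e | e | e | e | e
      · exact absurd e x1
      · exact e ▸ fused_negOne
      · exact (fused_congr e).2 ho
      · exact (fused_congr e).2 hs
      · exact (fused_congr e).2 (hd_of h)
    · exact pair 2600 2 4093 1493 (by norm_num) (by norm_num) rfl rfl (by norm_num) (by norm_num)
        ((fo (by norm_num) wO).2 ho) ((fo (by norm_num) w2).2 ho)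
        (fun e => hs ((fs (by norm_num) s4093).1 e)) (fun e => hs ((fs (by norm_num) s1493).1 e)) h
    · exact pair 1495 4089 6 1489 (by norm_num) (by norm_num) rfl rfl (by norm_num) (by norm_num)
        ((fs (by norm_num) s1495).2 hs) ((fs (by norm_num) s4089).2 hs)
        (fun e => ho ((fo (by norm_num) w6).1 e)) (fun e => ho ((fo (by norm_num) w1489).1 e)) h
    · exact h.elim ho hs
  exact ⟨fun h => hnone (Or.inl h), fun h => hnone (Or.inr h), fun h => hnone (hd0 h)⟩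

/-- The central involution is isolated. -/
theorem Setup.isolated (S : Setup φ) : IsIsolatedInvolution (φ negOne) := by
  refine ⟨orderOf_eq_prime (by rw [sq]; exact z_sq) S.z_ne, fun g hg => ?_⟩
  have hconj : IsConj (φ negOne) (g * φ negOne * g⁻¹) := isConj_iff.2 ⟨g, rfl⟩
  obtain ⟨x, hx⟩ := S.mem_range hconj hg.symm
  rw [← hx] at hconj ⊢
  have x2 : x * x = 1 := S.inj (by
    obtain ⟨k, hk⟩ := isConj_iff.1 hconj
    rw [map_mul, map_one, ← hk, show k * φ negOne * k⁻¹ * (k * φ negOne * k⁻¹) =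
      k * (φ negOne * φ negOne) * k⁻¹ by group, z_sq, mul_one, mul_inv_cancel])
  obtain ⟨no, ns, nd⟩ := S.not_fused
  rcases involution_cases x2 with e | e | e | e | e
  · rw [e, map_one] at hx
    exact absurd (conj_eq_one_iff.1 hx.symm) S.z_ne
  · rw [e]
  · exact absurd ((fused_congr e).1 hconj) no
  · exact absurd ((fused_congr e).1 hconj) ns
  · exact absurd ((fused_congr e).1 hconj) nd

end Cfsg.Agent.Lib.StdCo0
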