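import Cfsg.Agent.Lib.StdCo0.Isolated
import Cfsg.Agent.Lib.ConwayOut.Co1
import Cfsg.Agent.Lib.ZStar.Consequences
import Cfsg.Agent.Lib.ZStar.StronglyClosed
import Cfsg.Agent.S1754

/-!
# A standard lattice group with cyclic Sylow two-subgroups in its centralizer is normal

Every automorphism of the lattice group is inner, so the centralizer of the central involution is the
group times its centralizer, and the involution is isolated.
-/

set_option autoImplicit false

namespace Cfsg.Agent.Lib.StdCo0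

open Cfsg Cfsg.Agent.Lib Cfsg.Agent.Lib.Leech

/-- Every automorphism of the lattice group is inner. -/
theorem aut_inner (α : MulAut Co0) : ∃ c : Co0, ∀ x, α x = c * x * c⁻¹ := by
  have hZ : (Subgroup.center Co0).map α.toMonoidHom = Subgroup.center Co0 :=
    Subgroup.characteristic_iff_map_eq.1 inferInstance α
  let β : MulAut Spor.Co1 := QuotientGroup.congr _ _ α hZ
  haveI : Subsingleton (Out Spor.Co1) := (Nat.card_eq_one_iff_unique.1 ConwayOut.Co1.card_out).1
  obtain ⟨q, hq⟩ : β ∈ Inn Spor.Co1 := (QuotientGroup.eq_one_iff β).1 (Subsingleton.elim _ _)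
  obtain ⟨c, rfl⟩ := LeechMod2.Frame.bar_surjective q
  have key : ∀ x, c⁻¹ * α x * c * x⁻¹ ∈ Subgroup.center Co0 := fun x => by
    rw [← LeechMod2.Frame.bar_eq_one, map_mul, map_mul, map_mul, map_inv, map_inv]
    have e : bar (α x) = β (bar x) := rfl
    rw [e, ← hq, MulAut.conj_apply]
    group
  let ε : Co0 →* Subgroup.center Co0 := MonoidHom.mk' (fun x => ⟨_, key x⟩) fun x y => Subtype.ext (by
    show c⁻¹ * α (x * y) * c * (x * y)⁻¹ = c⁻¹ * α x * c * x⁻¹ * (c⁻¹ * α y * c * y⁻¹)
    have h := Subgroup.mem_center_iff.1 (key y) x⁻¹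
    calc _ = c⁻¹ * α x * c * (c⁻¹ * α y * c * y⁻¹) * x⁻¹ := by rw [map_mul]; group
      _ = c⁻¹ * α x * c * ((c⁻¹ * α y * c * y⁻¹) * x⁻¹) := by group
      _ = c⁻¹ * α x * c * (x⁻¹ * (c⁻¹ * α y * c * y⁻¹)) := by rw [h]
      _ = _ := by group)
  letI : CommGroup (Subgroup.center Co0) :=
    { (inferInstance : Group (Subgroup.center Co0)) with
      mul_comm := fun a b => Subtype.ext (Subgroup.mem_center_iff.1 b.2 a) }
  refine ⟨c, fun x => ?_⟩
  have hx : x ∈ commutator Co0 := Co1Mult.Cross.perfect_co0 ▸ Subgroup.mem_top x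
  have h1 : ε x = 1 := (Abelianization.commutator_subset_ker ε) hx
  have h2 : c⁻¹ * α x * c * x⁻¹ = 1 := congrArg Subtype.val h1
  rw [mul_inv_eq_one] at h2
  calc α x = c * (c⁻¹ * α x * c) * c⁻¹ := by group
    _ = _ := by rw [h2]

variable {G : Type*} [Group G] [Finite G]

theorem normal_of_standard (hO : oddCore G = ⊥) (A : Subgroup G) (hA : IsStandardSubgroup A)
    (hAX : Nonempty (A ≃* Co0))
    (hR : ∀ R : Sylow 2 ↥(Subgroup.centralizer (A : Set G)),
      IsCyclic ↥(R : Subgroup ↥(Subgroup.centralizer (A : Set G)))) : A.Normal := by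
  obtain ⟨θ⟩ := hAX
  set φ : Co0 →* G := A.subtype.comp θ.symm.toMonoidHom with hφ
  have hφinj : Function.Injective φ := Subtype.val_injective.comp θ.symm.injective
  have hrange : φ.range = A := by
    rw [hφ, MonoidHom.range_comp, MonoidHom.range_eq_top.2 θ.symm.surjective, ← MonoidHom.range_eq_map,
      Subgroup.range_subtype]
  have hz2 : orderOf (φ negOne) = 2 :=
    orderOf_eq_prime (by rw [sq, ← map_mul, negOne_sq, map_one])
      fun h => negOne_ne_one (hφinj (h.trans φ.map_one.symm))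
  have hzC : φ negOne ∈ Subgroup.centralizer (A : Set G) := hrange ▸ z_mem
  have hle := (S1754.result A hA _ hz2 hzC).1
  have fac : ∀ h : G, Commute h (φ negOne) →
      ∃ a : Co0, ∃ c ∈ Subgroup.centralizer (φ.range : Set G), h = φ a * c := by
    intro h hh
    have hN : h ∈ Subgroup.normalizer (A : Set G) :=
      hle (Subgroup.mem_centralizer_singleton_iff.2 hh.eq)
    have hconj : ∀ x, ∃ y, φ y = h * φ x * h⁻¹ := fun x => by
      have : h * φ x * h⁻¹ ∈ A := (Subgroup.mem_normalizer_iff.1 hN _).1 (θ.symm x).2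
      exact ⟨θ ⟨_, this⟩, by simp [hφ]⟩
    choose f hf using hconj
    have fm : ∀ x y, f (x * y) = f x * f y := fun x y => hφinj (by
      rw [hf, map_mul, map_mul, hf, hf]; group)
    have fb : Function.Bijective f := Finite.injective_iff_bijective.1 fun x y e => hφinj (by
      have := congrArg φ e
      rw [hf, hf] at this
      exact mul_left_cancel (mul_right_cancel this))
    obtain ⟨c, hc⟩ := aut_inner (MulEquiv.ofBijective (MonoidHom.mk' f fm) fb)
    refine ⟨c, (φ c)⁻¹ * h, ?_, by rw [mul_inv_cancel_left]⟩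
    rintro _ ⟨x, rfl⟩
    have e : φ c * φ x * (φ c)⁻¹ = h * φ x * h⁻¹ := by
      rw [← map_inv, ← map_mul, ← map_mul, ← hc x]
      exact hf x
    calc φ x * ((φ c)⁻¹ * h) = (φ c)⁻¹ * (φ c * φ x * (φ c)⁻¹) * h := by group
      _ = (φ c)⁻¹ * (h * φ x * h⁻¹) * h := by rw [e]
      _ = _ := by group
  have S : Setup φ := ⟨hφinj, fac, by rw [hrange]; exact hR⟩
  have hz : ∀ g : G, φ negOne * g * (φ negOne)⁻¹ * g⁻¹ = 1 := fun g => by
    have h := ZStar.Consequences.isolated_commutator_mem ZStar.StronglyClosed.involutionThm S.isolated g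
    rwa [hO, Subgroup.mem_bot] at h
  refine Subgroup.normalizer_eq_top_iff.1 (top_le_iff.1 fun g _ => hle ?_)
  rw [Subgroup.mem_centralizer_singleton_iff]
  have h := hz g
  rw [mul_inv_eq_one, mul_inv_eq_iff_eq_mul] at h
  exact h.symm

end Cfsg.Agent.Lib.StdCo0
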