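import Cfsg.Agent.Lib.StdCo0.Classes

/-!
# A Sylow two-subgroup of the lattice group

It is the sign changes extended by a Sylow two-subgroup of the code group.  Its centre is generated by
`-1` and the sign change on the octad it fixes; only the negative of that sign change admits a further
element commuting with the subgroup up to it.
-/

set_option autoImplicit false
set_option maxRecDepth 20000

namespace Cfsg.Agent.Lib.StdCo0

open Cfsg Cfsg.Agent.Lib Cfsg.Agent.Lib.Leech
open Cfsg.Agent.Lib.Co1Mult.Cross (dg dg_eightE dg_xor dg_sq dg_comm dg_inj dg_mem exists_dg dg_zero)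
open Cfsg.Agent.Lib.Golay (enc enc_lt enc_mod setOfMask permMask gperm)
open Cfsg.Agent.Lib.M24SylowQuot (K gensP LP dataP card_K)

/-- The Sylow two-subgroup. -/
noncomputable def T0 : Subgroup Co0 where
  carrier := {g | ∃ d ∈ LeechMod2.Frame.diag, ∃ u : M24,
    (u : Equiv.Perm GolayPt) ∈ K ∧ g = d * permHom u}
  one_mem' := ⟨1, one_mem _, 1, one_mem _, by rw [map_one, one_mul]⟩
  mul_mem' := by
    rintro g g' ⟨d, hd, u, hu, rfl⟩ ⟨d', hd', u', hu', rfl⟩
    refine ⟨d * (permHom u * d' * (permHom u)⁻¹),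
      mul_mem hd (LeechMod2.Frame.cross_conj_diag (LeechMod2.Frame.permHom_mem_cross u) hd'),
      u * u', mul_mem hu hu', ?_⟩
    rw [map_mul]
    group
  inv_mem' := by
    rintro g ⟨d, hd, u, hu, rfl⟩
    refine ⟨permHom u⁻¹ * d⁻¹ * (permHom u⁻¹)⁻¹,
      LeechMod2.Frame.cross_conj_diag (LeechMod2.Frame.permHom_mem_cross _) (inv_mem hd),
      u⁻¹, inv_mem hu, ?_⟩
    rw [map_inv]
    group

theorem dg_mem_T0 (k : ℕ) : dg k ∈ T0 := ⟨dg k, dg_mem k, 1, one_mem _, by rw [map_one, mul_one]⟩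

theorem negOne_mem_T0 : negOne ∈ T0 := negOne_eq ▸ dg_mem_T0 4095

theorem perm_mem_T0 {u : M24} (hu : (u : Equiv.Perm GolayPt) ∈ K) : permHom u ∈ T0 :=
  ⟨1, one_mem _, u, hu, (one_mul _).symm⟩

theorem mem_M24_of_mem_K {σ : Equiv.Perm GolayPt} (h : σ ∈ K) : σ ∈ M24 := by
  refine (Subgroup.closure_le _).2 ?_ h
  rintro _ ⟨g, hg, rfl⟩
  exact dataP.genH g hg

/-- The elements of the coded subgroup have listed codes. -/
theorem exists_code {σ : Equiv.Perm GolayPt} (h : σ ∈ K) : ∃ c ∈ LP, gperm c = σ := by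
  classical
  have hinj : Function.Injective fun c : {c // c ∈ LP} => (⟨gperm c.1, dataP.gperm_mem c.2⟩ : K) :=
    fun a b e => Subtype.ext (dataP.injOn a.2 b.2 (congrArg Subtype.val e))
  have hsurj : Function.Surjective fun c : {c // c ∈ LP} => (⟨gperm c.1, dataP.gperm_mem c.2⟩ : K) := by
    refine ((Nat.bijective_iff_injective_and_card _).2 ⟨hinj, ?_⟩).2
    rw [card_K, Nat.card_congr (Equiv.subtypeEquivRight fun c => List.mem_toFinset.symm),
      Nat.card_eq_finsetCard, List.toFinset_card_of_nodup dataP.nodup]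
    exact M24SylowQuot.length_P
  obtain ⟨⟨c, hc⟩, e⟩ := hsurj ⟨σ, h⟩
  exact ⟨c, hc, congrArg Subtype.val e⟩

theorem card_T0 : Nat.card T0 = 2 ^ 22 := by
  classical
  let f : LeechMod2.Frame.diag × K → T0 := fun p =>
    ⟨p.1.1 * permHom ⟨p.2.1, mem_M24_of_mem_K p.2.2⟩, p.1.1, p.1.2, _, p.2.2, rfl⟩
  have hf : Function.Bijective f := by
    refine ⟨?_, ?_⟩
    · rintro ⟨⟨d, hd⟩, ⟨u, hu⟩⟩ ⟨⟨d', hd'⟩, ⟨u', hu'⟩⟩ h
      have e := congrArg Subtype.val h
      simp only [f] at e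
      have e2 : permHom ((⟨u, mem_M24_of_mem_K hu⟩ : M24) * (⟨u', mem_M24_of_mem_K hu'⟩ : M24)⁻¹) =
          d⁻¹ * d' := by
        rw [map_mul, map_inv]
        calc _ = d⁻¹ * (d * permHom ⟨u, mem_M24_of_mem_K hu⟩) *
              (permHom ⟨u', mem_M24_of_mem_K hu'⟩)⁻¹ := by group
          _ = _ := by rw [e]; group
      have hu1 := LeechMod2.Frame.eq_one_of_permHom_mem_diag (e2 ▸ mul_mem (inv_mem hd) hd')
      rw [hu1, map_one] at e2
      have hd1 : d = d' := inv_mul_eq_one.1 e2.symm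
      have hu2 : u = u' := congrArg Subtype.val (mul_inv_eq_one.1 hu1)
      subst hd1 hu2
      rfl
    · rintro ⟨g, d, hd, u, hu, rfl⟩
      exact ⟨⟨⟨d, hd⟩, ⟨u.1, hu⟩⟩, rfl⟩
  rw [← Nat.card_eq_of_bijective f hf, Nat.card_prod, LeechMod2.Frame.card_diag, card_K]
  norm_num

theorem isPGroup_T0 : IsPGroup 2 T0 := IsPGroup.of_card card_T0

theorem odd_index_T0 : Odd T0.index := by
  have h := T0.card_mul_index
  rw [card_T0, card_co0] at h
  exact Nat.odd_iff.2 (by omega)

/-! ### Checks on the code -/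

theorem fixed_oct : LP.all (fun c => Nat.beq (permMask c (enc 2600)) (enc 2600)) = true := by
  decide +kernel

theorem pair_B : LP.all (fun c =>
    Nat.beq (permMask c (enc 84)) (enc 84) || Nat.beq (permMask c (enc 84)) (enc 1411)) = true := by
  decide +kernel

theorem moves_code : LP.all (fun c => Nat.beq c Golay.oneCode || (List.range 12).any fun i =>
    !(Nat.beq (permMask c (enc (2 ^ i))) (enc (2 ^ i))) &&
      !(Nat.beq (permMask c (enc (2 ^ i))) (enc (2 ^ i) ^^^ enc 4095))) = true := by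
  decide +kernel

theorem fixed_pairs : ((List.range 4096).all fun k =>
    !(gensP.all fun c => Nat.beq (permMask c (enc k)) (enc k) ||
        Nat.beq (permMask c (enc k)) (enc k ^^^ enc 4095)) ||
      Nat.beq k 0 || Nat.beq k 4095 || Nat.beq k 2600 || Nat.beq k 1495) = true := by
  decide +kernel

theorem oo_central {t : Co0} (ht : t ∈ T0) : Commute t oo := by
  obtain ⟨d, hd, u, hu, rfl⟩ := ht
  obtain ⟨a, ha, rfl⟩ := exists_dg hd
  refine Commute.mul_left (dg_comm a 2600) ?_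
  obtain ⟨c, hc, e⟩ := exists_code hu
  obtain rfl : u = ⟨gperm c, mem_M24_of_mem_K (dataP.gperm_mem hc)⟩ := Subtype.ext e.symm
  obtain ⟨j, hj, hm, hconj⟩ := code_dg (dataP.ok c hc).1 (mem_M24_of_mem_K (dataP.gperm_mem hc))
    (k := 2600) (by norm_num)
  have h := List.all_eq_true.1 fixed_oct c hc
  rw [Nat.beq_eq, hm] at h
  have hjk : j = 2600 := by rw [← enc_mod hj, h, enc_mod (by norm_num)]
  subst hjk
  exact mul_inv_eq_iff_eq_mul.1 hconj

/-- The sign change on a second octad is moved at most by the negative of the first. -/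
theorem ss_pair {t : Co0} (ht : t ∈ T0) :
    t * dg 84 * t⁻¹ * (dg 84)⁻¹ = 1 ∨ t * dg 84 * t⁻¹ * (dg 84)⁻¹ = ss := by
  obtain ⟨d, hd, u, hu, rfl⟩ := ht
  obtain ⟨a, ha, rfl⟩ := exists_dg hd
  obtain ⟨c, hc, e⟩ := exists_code hu
  obtain rfl : u = ⟨gperm c, mem_M24_of_mem_K (dataP.gperm_mem hc)⟩ := Subtype.ext e.symm
  obtain ⟨j, hj, hm, hconj⟩ := code_dg (dataP.ok c hc).1 (mem_M24_of_mem_K (dataP.gperm_mem hc))
    (k := 84) (by norm_num)
  have hinv : ∀ k, (dg k)⁻¹ = dg k := fun k => inv_eq_of_mul_eq_one_right (dg_sq k)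
  set p := permHom ⟨gperm c, mem_M24_of_mem_K (dataP.gperm_mem hc)⟩
  have e1 : dg a * p * dg 84 * (dg a * p)⁻¹ * (dg 84)⁻¹ = dg j * dg 84 := by
    calc _ = dg a * (p * dg 84 * p⁻¹) * (dg a)⁻¹ * (dg 84)⁻¹ := by group
      _ = _ := by rw [hconj, (dg_comm a j).eq, mul_inv_cancel_right, hinv]
  rw [e1]
  have h := List.all_eq_true.1 pair_B c hc
  simp only [Bool.or_eq_true, Nat.beq_eq, hm] at h
  rcases h with h | h
  · left
    rw [show j = 84 by rw [← enc_mod hj, h, enc_mod (by norm_num)], dg_sq]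
  · right
    rw [show j = 1411 by rw [← enc_mod hj, h, enc_mod (by norm_num)], ← dg_xor]
    rfl

/-- An element commuting with the subgroup up to sign is one of four sign changes. -/
theorem near_central {a : Co0} (ha : a ∈ T0) (h : ∀ t ∈ T0, a * t = t * a ∨ a * t = t * a * negOne) :
    a = 1 ∨ a = negOne ∨ a = oo ∨ a = ss := by
  obtain ⟨d, hd, u, hu, rfl⟩ := ha
  obtain ⟨k, hk, rfl⟩ := exists_dg hd
  obtain ⟨c, hc, e⟩ := exists_code hu
  obtain rfl : u = ⟨gperm c, mem_M24_of_mem_K (dataP.gperm_mem hc)⟩ := Subtype.ext e.symm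
  have hinv : ∀ k, (dg k)⁻¹ = dg k := fun k => inv_eq_of_mul_eq_one_right (dg_sq k)
  have hen : ∀ {i : ℕ}, i < 4096 → enc (i ^^^ 4095) = enc i ^^^ enc 4095 := fun hi =>
    Golay.enc_xor hi (by norm_num)
  have hcen := Subgroup.mem_center_iff.1 negOne_mem_center
  set p := permHom ⟨gperm c, mem_M24_of_mem_K (dataP.gperm_mem hc)⟩ with hp
  have hc1 : c = Golay.oneCode := by
    by_contra hne
    have h1 := List.all_eq_true.1 moves_code c hc
    simp only [Bool.or_eq_true, Nat.beq_eq, hne, false_or, List.any_eq_true, List.mem_range,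
      Bool.and_eq_true, Bool.not_eq_true', Bool.eq_false_iff, ne_eq] at h1
    obtain ⟨i, hi, n1, n2⟩ := h1
    have hi2 : (2 : ℕ) ^ i < 4096 := (Nat.pow_lt_pow_right (by norm_num) hi : 2 ^ i < 2 ^ 12)
    obtain ⟨j, hj, hm, hconj⟩ := code_dg (dataP.ok c hc).1 (mem_M24_of_mem_K (dataP.gperm_mem hc))
      (k := 2 ^ i) hi2
    have e1 : dg k * p * dg (2 ^ i) * (dg k * p)⁻¹ = dg j := by
      calc _ = dg k * (p * dg (2 ^ i) * p⁻¹) * (dg k)⁻¹ := by group
        _ = _ := by rw [hp, hconj, (dg_comm k j).eq, mul_inv_cancel_right]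
    rcases h (dg (2 ^ i)) (dg_mem_T0 _) with e2 | e2
    · rw [e2, mul_inv_cancel_right] at e1
      refine n1 ?_
      rw [hm, ← dg_inj hi2 hj e1]
    · rw [e2, mul_assoc (dg (2 ^ i)) (dg k * p) negOne, hcen (dg k * p), ← mul_assoc,
        mul_inv_cancel_right, dg_mul_negOne] at e1
      refine n2 ?_
      rw [hm, ← dg_inj (Nat.xor_lt_two_pow (n := 12) hi2 (by norm_num)) hj e1, hen hi2]
  subst hc1
  have hp1 : p = 1 := by
    rw [hp, show (⟨gperm Golay.oneCode, mem_M24_of_mem_K (dataP.gperm_mem hc)⟩ : M24) = 1 from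
      Subtype.ext Golay.gperm_oneCode, map_one]
  rw [hp1, mul_one] at h ⊢
  have hall : gensP.all (fun g => Nat.beq (permMask g (enc k)) (enc k) ||
      Nat.beq (permMask g (enc k)) (enc k ^^^ enc 4095)) = true := by
    refine List.all_eq_true.2 fun g hg => ?_
    have hgL := dataP.genMem g hg
    obtain ⟨j, hj, hm, hconj⟩ := code_dg (dataP.ok g hgL).1 (mem_M24_of_mem_K (dataP.gperm_mem hgL))
      (k := k) hk
    simp only [Bool.or_eq_true, Nat.beq_eq]
    rcases h _ (perm_mem_T0 (u := ⟨gperm g, mem_M24_of_mem_K (dataP.gperm_mem hgL)⟩)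
        (dataP.gperm_mem hgL)) with e2 | e2
    · left
      rw [← e2, mul_inv_cancel_right] at hconj
      rw [hm, dg_inj hk hj hconj]
    · right
      have e3 : dg j = dg (k ^^^ 4095) := by
        rw [← hconj, ← dg_mul_negOne]
        refine mul_inv_eq_iff_eq_mul.2 ?_
        calc _ = (dg k * permHom _) * negOne⁻¹ := by rw [e2, mul_inv_cancel_right]
          _ = _ := by
            rw [inv_eq_of_mul_eq_one_right negOne_sq, mul_assoc, hcen (permHom _), ← mul_assoc]
      rw [hm, dg_inj hj (Nat.xor_lt_two_pow (n := 12) hk (by norm_num)) e3, hen hk]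
  have h2 := List.all_eq_true.1 fixed_pairs k (List.mem_range.2 hk)
  rw [hall] at h2
  simp only [Bool.or_eq_true, Nat.beq_eq, Bool.not_true, Bool.false_eq_true, false_or] at h2
  rcases h2 with ((rfl | rfl) | rfl) | rfl
  · exact Or.inl dg_zero
  · exact Or.inr (Or.inl negOne_eq.symm)
  · exact Or.inr (Or.inr (Or.inl rfl))
  · exact Or.inr (Or.inr (Or.inr rfl))

/-- The central elements. -/
theorem center_T0 {a : Co0} (ha : a ∈ T0) (h : ∀ t ∈ T0, a * t = t * a) :
    a = 1 ∨ a = negOne ∨ a = oo ∨ a = ss :=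
  near_central ha fun t ht => Or.inl (h t ht)

theorem ss_central {t : Co0} (ht : t ∈ T0) : Commute t ss := by
  rw [ss_eq]
  exact (oo_central ht).mul_right (Subgroup.mem_center_iff.1 negOne_mem_center t)

theorem B_not_center : ¬ ∀ t ∈ T0, dg 84 * t = t * dg 84 := fun h => by
  have h0 := center_T0 (dg_mem_T0 84) h
  rw [negOne_eq, oo, ss, ← dg_zero] at h0
  rcases h0 with e | e | e | e <;>
    exact absurd (dg_inj (by norm_num) (by norm_num) e) (by decide)

end Cfsg.Agent.Lib.StdCo0
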